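import Groth.Agent.EtShLib.CechColim
import Groth.Agent.CdOneLib.SectColim

/-! Cohomology commutes with filtered colimits indexed by large small categories. -/

set_option autoImplicit false
set_option linter.unusedSectionVars false
set_option linter.style.haveILetI false
set_option backward.isDefEq.respectTransparency false
set_option backward.isDefEq.respectTransparency.types false
set_option synthInstance.maxHeartbeats 400000
set_option maxHeartbeats 1000000

universe u

open CategoryTheory CategoryTheory.Limits CategoryTheory.Abelian AlgebraicGeometry Opposite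
open Groth.Agent.EtShLib (constZ isTerminal_top CechAcyclicQ subsingleton_H_cechAcyclicQ cechAcyclicQ_injective pow_mem_qcqsObj qcqsObj)

namespace Groth.Agent.CdOneLib

variable {X : Scheme.{u}}

theorem cechAcyclicQ_colimit {J : Type (u + 1)} [SmallCategory J] [IsFiltered J] {D : J ⥤ EtCoh.Ab X} {c : Cocone D}
    (hc : IsColimit c) (h : ∀ j, CechAcyclicQ (D.obj j)) : CechAcyclicQ c.pt := by
  intro W' W π hW' hW hπ n x hx
  haveI := (pow_mem_qcqsObj π hW' hW (n + 1)).1
  haveI := (pow_mem_qcqsObj π hW' hW (n + 1)).2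
  haveI := (pow_mem_qcqsObj π hW' hW (n + 2)).1
  haveI : CompactSpace ((EpsLib.nerveOf π).obj (n + 1)).left := (pow_mem_qcqsObj π hW' hW (n + 1)).1
  haveI : QuasiSeparatedSpace ((EpsLib.nerveOf π).obj (n + 1)).left := (pow_mem_qcqsObj π hW' hW (n + 1)).2
  haveI : CompactSpace ((EpsLib.nerveOf π).obj (n + 1 + 1)).left := (pow_mem_qcqsObj π hW' hW (n + 1 + 1)).1
  obtain ⟨i, s, rfl⟩ := exists_stage_lift hc ((EpsLib.nerveOf π).obj (n + 1)) x
  obtain ⟨k, a, ha⟩ := exists_stage_zero hc ((EpsLib.nerveOf π).obj (n + 1 + 1)) _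
    ((EpsLib.cechD_natural (EpsLib.nerveOf π) (c.ι.app i).hom (n + 1) s).trans hx)
  obtain ⟨y, hy⟩ := h k W' W π hW' hW hπ n _
    ((EpsLib.cechD_natural (EpsLib.nerveOf π) (D.map a).hom (n + 1) s).symm.trans ha)
  refine ⟨(c.ι.app k).hom.app _ y, ?_⟩
  refine (EpsLib.cechD_natural (EpsLib.nerveOf π) (c.ι.app k).hom n y).symm.trans ?_
  rw [hy, ← ConcreteCategory.comp_apply]
  exact congrArg (fun w : D.obj i ⟶ c.pt => w.hom.app _ s) (c.w a)

theorem preservesFilteredColimits_H [CompactSpace X] [QuasiSeparatedSpace X] (n : ℕ) (J : Type (u + 1)) [SmallCategory J]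
    [IsFiltered J] : PreservesColimitsOfShape J (EtCoh.HF X n) := by
  obtain ⟨hT⟩ := isTerminal_top X
  haveI : CompactSpace (EtCoh.top X).left := ‹CompactSpace X›
  haveI : QuasiSeparatedSpace (EtCoh.top X).left := ‹QuasiSeparatedSpace X›
  have key : ∀ (F : EtCoh.Ab X) (s : constZ X ⟶ F) {G : EtCoh.Ab X} (f : F ⟶ G),
      f.hom.app (op (EtCoh.top X)) (Sheaf.H.equiv₀ F hT (Ext.mk₀ s)) = Sheaf.H.equiv₀ G hT (Ext.mk₀ (s ≫ f)) :=
    fun F s G f => by
      rw [Sheaf.H.equiv₀_naturality, Sheaf.H.map_apply, Ext.mk₀_comp_mk₀]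
  have hcomm : FiltExtLib.ExtComm (constZ X) J n := by
    refine FiltExtLib.extComm_of_acyclic ?_ ?_ ?_ n
    · intro D t
      obtain ⟨i, y, hy⟩ := exists_stage_lift (colimit.isColimit D) (EtCoh.top X) (Sheaf.H.equiv₀ _ hT (Ext.mk₀ t))
      obtain ⟨s, hs⟩ := Ext.addEquiv₀.symm.surjective ((Sheaf.H.equiv₀ _ hT).symm y)
      refine ⟨i, s, ?_⟩
      have h1 : Sheaf.H.equiv₀ _ hT (Ext.mk₀ s) = y := by
        rw [← Ext.addEquiv₀_symm_apply, hs, AddEquiv.apply_symm_apply]
      apply Ext.addEquiv₀.symm.injective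
      rw [Ext.addEquiv₀_symm_apply, Ext.addEquiv₀_symm_apply]
      apply (Sheaf.H.equiv₀ _ hT).injective
      rw [← key _ s, h1]
      exact hy
    · intro D i s h
      obtain ⟨k, a, ha⟩ := exists_stage_zero (colimit.isColimit D) (EtCoh.top X) (i := i)
          (Sheaf.H.equiv₀ _ hT (Ext.mk₀ s)) (by
        refine (key _ s _).trans ?_
        erw [h]
        rw [Ext.mk₀_zero, map_zero])
      refine ⟨k, a, ?_⟩
      apply Ext.addEquiv₀.symm.injective
      rw [Ext.addEquiv₀_symm_apply, Ext.addEquiv₀_symm_apply]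
      apply (Sheaf.H.equiv₀ _ hT).injective
      rw [← key _ s, Ext.mk₀_zero, map_zero]
      exact ha
    · intro q I hI
      exact subsingleton_H_cechAcyclicQ q _ (cechAcyclicQ_colimit (colimit.isColimit I) fun j =>
        @cechAcyclicQ_injective _ (I.obj j) (hI _))
  haveI := FiltExtLib.preservesColimitsOfShape_ext hcomm
  let e : (Abelian.extFunctor.{u + 1} n).obj (op (constZ X)) ≅ EtCoh.HF X n :=
    NatIso.ofComponents (fun F => Iso.refl _) fun _ => rfl
  exact preservesColimitsOfShape_of_natIso e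

end Groth.Agent.CdOneLib
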