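import Groth.Agent.EtBrLib.Basis
import Groth.Agent.EtTransferLib.Basic

/-!
# Injective abelian etale sheaves are divisible
-/

set_option autoImplicit false
set_option linter.unusedSectionVars false
set_option linter.style.haveILetI false
set_option backward.isDefEq.respectTransparency false
set_option backward.isDefEq.respectTransparency.types false
set_option synthInstance.maxHeartbeats 400000
set_option maxHeartbeats 1000000

universe u

open CategoryTheory CategoryTheory.Limits AlgebraicGeometry Opposite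
open Groth.Agent.EtShLib EtSliceLib EtTransferLib

noncomputable section

namespace CdOneLib

variable {X : Scheme.{u}}

theorem eq_zero_of_nsmul_stalk_free {Ω : Type u} [Field Ω] [IsSepClosed Ω] (ξ : Spec (CommRingCat.of Ω) ⟶ X)
    (U : X.Etale) {n : ℕ} (hn : 0 < n) (Q : EtBrLib.PSt ξ U) (h : n • Q = 0) : Q = 0 := by
  classical
  let A := AddCommGrpCat.of (ULift.{u + 1} (Fib ξ U →₀ ℤ))
  obtain ⟨c, hc⟩ := EtBrLib.exists_hom ξ U (N := A) fun v => ⟨Finsupp.single v 1⟩
  let g : (Fib ξ U →₀ ℤ) →+ EtBrLib.PSt ξ U :=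
    Finsupp.liftAddHom fun v => zmultiplesHom _ (EtBrLib.e ξ U v)
  let g' : A ⟶ EtBrLib.PSt ξ U := AddCommGrpCat.ofHom (g.comp AddEquiv.ulift.toAddMonoidHom)
  have hg : c ≫ g' = 𝟙 _ := EtBrLib.hom_ext ξ U fun v => by
    show g' (c (EtBrLib.e ξ U v)) = EtBrLib.e ξ U v
    rw [hc]
    show g (Finsupp.single v 1) = EtBrLib.e ξ U v
    rw [Finsupp.liftAddHom_apply_single]
    exact one_zsmul _
  have h1 : n • (c Q : ULift.{u + 1} (Fib ξ U →₀ ℤ)).down = 0 :=
    congrArg ULift.down ((c.hom.map_nsmul n Q).symm.trans ((congrArg c h).trans (map_zero _)))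
  have h2 : (c Q : ULift.{u + 1} (Fib ξ U →₀ ℤ)).down = 0 := by
    ext v
    have := congrArg (fun t : Fib ξ U →₀ ℤ => t v) h1
    simpa [hn.ne'] using this
  have h3 : g' (c Q) = Q := ConcreteCategory.congr_hom hg Q
  rw [← h3, show c Q = 0 from ULift.ext _ _ h2, map_zero]

theorem mono_nsmul_free (U : X.Etale) {n : ℕ} (hn : 0 < n) : Mono (n • 𝟙 (free U)) :=
  (mono_iff_stalks (A := AddCommGrpCat.{u + 1}) _).2 fun Ω _ _ ξ => by
    rw [AddCommGrpCat.mono_iff_injective, injective_iff_map_eq_zero]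
    intro Q hQ
    refine eq_zero_of_nsmul_stalk_free ξ U hn Q ?_
    obtain ⟨V, v, s, rfl⟩ := exists_germ ξ Q
    rwa [germ_natural_apply, nsmul_id_app, map_nsmul] at hQ

theorem epi_nsmul_injective (I : EtCoh.Ab X) [Injective I] {n : ℕ} (hn : 0 < n) : Epi (n • 𝟙 I) :=
  (epi_iff_stalks (A := AddCommGrpCat.{u + 1}) _).2 fun Ω _ _ ξ => by
    rw [AddCommGrpCat.epi_iff_surjective]
    intro P
    obtain ⟨U, u₀, s, rfl⟩ := exists_germ ξ P
    haveI := mono_nsmul_free U hn
    let t : free U ⟶ I := Injective.factorThru (desc U s) (n • 𝟙 (free U))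
    have ht : (n • 𝟙 (free U)) ≫ t = desc U s := Injective.comp_factorThru _ _
    refine ⟨germ (A := AddCommGrpCat.{u + 1}) ξ I U u₀ (t.hom.app (op U) (gen U)), ?_⟩
    rw [germ_natural_apply, nsmul_id_app]
    refine congrArg _ ?_
    have h := congrArg (fun w : free U ⟶ I => w.hom.app (op U) (gen U)) ht
    refine Eq.trans ?_ (h.trans (desc_gen U s))
    show _ = t.hom.app (op U) ((n • 𝟙 (free U)).hom.app (op U) (gen U))
    rw [nsmul_id_app, map_nsmul]

end CdOneLib

end
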