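import Groth.Agent.CdOneLib.Cons
import Groth.Agent.CdOneLib.ColimH
import Groth.Agent.CdOneLib.Divisible
import Groth.Agent.EtShLib.TorsionColim
import Groth.Agent.S0134

/-!
# `p`-primary cohomology of torsion sheaves over a field
-/

set_option autoImplicit false
set_option linter.unusedSectionVars false
set_option linter.style.haveILetI false
set_option backward.isDefEq.respectTransparency false
set_option backward.isDefEq.respectTransparency.types false
set_option synthInstance.maxHeartbeats 400000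
set_option maxHeartbeats 1000000

universe u

open CategoryTheory CategoryTheory.Limits CategoryTheory.Abelian AlgebraicGeometry Opposite
open Groth.Agent.EtShLib EtSliceLib EtTransferLib

noncomputable section

namespace CdOneLib

variable {k : Type u} [Field k]

/-- `p`-primary classes on torsion sheaves vanish. -/
theorem eq_zero_of_hypP (p : ℕ) [Fact p.Prime] {q : ℕ} (hk : HypP k p q)
    (F : EtCoh.Ab (Spec (CommRingCat.of k))) (hF : EtCoh.IsTorsion F)
    (x : EtCoh.H (Spec (CommRingCat.of k)) F q) (hx : ∃ m : ℕ, p ^ m • x = 0) : x = 0 := by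
  let X := Spec (CommRingCat.of k)
  obtain ⟨m, hm⟩ := hx
  haveI := isFiltered_consOver F
  haveI := Groth.Agent.CdOneLib.preservesFilteredColimits_H (X := X) q (ConsOver F)
  haveI : IsFilteredOrEmpty (ConsOver F) := IsFiltered.toIsFilteredOrEmpty
  obtain ⟨hc⟩ := nonempty_isColimit_consCocone F (torsionBy_of_isTorsion hF)
  let hc' := isColimitOfPreserves (EtCoh.HF X q) hc
  obtain ⟨i, y, rfl⟩ := Concrete.isColimit_exists_rep _ hc' x
  have h0 : ((EtCoh.HF X q).mapCocone (consCocone F)).ι.app i (p ^ m • y) =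
      ((EtCoh.HF X q).mapCocone (consCocone F)).ι.app i 0 := by
    rw [map_nsmul, map_zero]
    exact hm
  obtain ⟨l, a, b, e⟩ := (Concrete.isColimit_rep_eq_iff_exists (consDiagram F ⋙ EtCoh.HF X q) hc' _ _).1 h0
  rw [map_zero, map_nsmul] at e
  obtain ⟨N, hN⟩ := exists_hasCard k (PresOver.isCons (F := F) l)
  have hz : (consDiagram F ⋙ EtCoh.HF X q).map a y = 0 := eq_zero_of_hasCard p q N k hk _ hN _ ⟨m, e⟩
  have hw := ConcreteCategory.congr_hom (((EtCoh.HF X q).mapCocone (consCocone F)).w a) y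
  rw [ConcreteCategory.comp_apply, hz, map_zero] at hw
  exact hw.symm

theorem nsmul_ext {X : Scheme.{u}} {M G : EtCoh.Ab X} (n : ℕ) (h : n • 𝟙 G = 0) {q : ℕ}
    (z : Ext.{u + 1} M G q) : n • z = 0 := by
  rw [← EtTransferLib.comp_mk₀_nsmul, h, Ext.mk₀_zero, Ext.comp_zero]

theorem isTorsion_of_nsmul_id {X : Scheme.{u}} {G : EtCoh.Ab X} (n : ℕ) (hn : 0 < n) (h : n • 𝟙 G = 0) :
    EtCoh.IsTorsion G := by
  intro U s x
  refine ⟨U, 𝟙 U, ⟨x, rfl⟩, isOfFinAddOrder_iff_nsmul_eq_zero.2 ⟨n, hn, ?_⟩⟩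
  have h1 : n • s = 0 := (nsmul_id_app G n U s).symm.trans (congrArg (fun t : G ⟶ G => t.hom.app (op U) s) h)
  rw [← map_nsmul, h1, map_zero]

theorem nsmul_id_const {X : Scheme.{u}} (p : ℕ) : p • 𝟙 (EtCoh.const X (ZMod p)) = 0 := by
  let cS := constantSheaf X.smallEtaleTopology AddCommGrpCat.{u + 1}
  haveI : (EtCore.gsec X).Additive := ⟨fun {X Y f g} => rfl⟩
  haveI : cS.Additive := (EtCore.constAdj X).left_adjoint_additive
  have h : p • 𝟙 (AddCommGrpCat.of (ULift.{u + 1} (ZMod p))) = 0 := by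
    ext a
    simp
  show p • 𝟙 (cS.obj _) = 0
  rw [← CategoryTheory.Functor.map_id, ← Functor.map_nsmul, h, Functor.map_zero]

/-- Degree shift. -/
theorem HypP.succ {p : ℕ} [hp : Fact p.Prime] {q : ℕ} (hq : 1 ≤ q) (hk : HypP k p q) : HypP k p (q + 1) := by
  intro L _ _ _ _ hL
  have hkL : HypP L p q := hk.ext L hL
  let Z := EtCoh.const (Spec (CommRingCat.of L)) (ZMod p)
  let ip := (EnoughInjectives.presentation Z).some
  haveI : Injective ip.J := ip.injective
  haveI := epi_nsmul_injective ip.J hp.out.pos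
  let T := ShortComplex.mk (kernel.ι (p • 𝟙 ip.J)) (p • 𝟙 ip.J) (kernel.condition _)
  have hT : T.ShortExact := { exact := ShortComplex.exact_of_f_is_kernel _ (kernelIsKernel _) }
  let P := kernel (p • 𝟙 ip.J)
  let ι : Z ⟶ P := kernel.lift _ ip.f (by
    rw [Preadditive.comp_nsmul, Category.comp_id, ← Category.id_comp ip.f, ← Preadditive.nsmul_comp,
      nsmul_id_const, zero_comp])
  haveI : Mono ι := mono_of_mono_fac (kernel.lift_ι _ _ _)
  let S := ShortComplex.mk ι (cokernel.π ι) (cokernel.condition ι)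
  have hS : S.ShortExact := { exact := ShortComplex.exact_of_g_is_cokernel _ (cokernelIsCokernel ι) }
  have hP : p • 𝟙 P = 0 := by
    rw [← cancel_mono (kernel.ι (p • 𝟙 ip.J)), zero_comp, Preadditive.nsmul_comp, Category.id_comp]
    have h := kernel.condition (p • 𝟙 ip.J)
    rwa [Preadditive.comp_nsmul, Category.comp_id] at h
  have hC : p • 𝟙 (cokernel ι) = 0 := by
    rw [← cancel_epi (cokernel.π ι), comp_zero, Preadditive.comp_nsmul, Category.comp_id,
      ← Category.id_comp (cokernel.π ι), ← Preadditive.nsmul_comp, hP, zero_comp]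
  obtain ⟨q', rfl⟩ : ∃ q', q = q' + 1 := ⟨q - 1, by omega⟩
  refine subsingleton_of_forall_eq 0 fun z => ?_
  have hzP : Ext.comp (z : Ext.{u + 1} _ Z (q' + 1 + 1)) (Ext.mk₀ ι) (add_zero _) = 0 := by
    obtain ⟨w, hw⟩ := Ext.covariant_sequence_exact₁ _ hT
      (Ext.comp (z : Ext.{u + 1} _ Z (q' + 1 + 1)) (Ext.mk₀ ι) (add_zero _)) (n₁ := q' + 1 + 1)
      (Ext.eq_zero_of_injective _) (n₀ := q' + 1) rfl
    rw [← hw, Ext.eq_zero_of_injective w, Ext.zero_comp]
  obtain ⟨y, hy⟩ := Ext.covariant_sequence_exact₁ _ hS (z : Ext.{u + 1} _ Z (q' + 1 + 1)) hzP (n₀ := q' + 1) rfl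
  have hy0 : y = 0 := eq_zero_of_hypP p hkL _ (isTorsion_of_nsmul_id p hp.out.pos hC)
    (y : EtCoh.H (Spec (CommRingCat.of L)) (cokernel ι) (q' + 1)) ⟨1, by rw [pow_one]; exact nsmul_ext p hC y⟩
  rw [← hy, hy0, Ext.zero_comp]

/-- All higher degrees. -/
theorem HypP.of_le {p : ℕ} [Fact p.Prime] {n q : ℕ} (hn : 1 ≤ n) (h : HypP k p n) (hq : n ≤ q) : HypP k p q := by
  induction q, hq using Nat.le_induction with
  | base => exact h
  | succ q hq ih => exact ih.succ (by omega)

/-- `cd_p ≤ n` from the vanishing of `H^{n+1}(L, ℤ/p)`. -/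
theorem pcd_le (p : ℕ) [Fact p.Prime] {n : ℕ} (h : HypP k p (n + 1))
    (F : EtCoh.Ab (Spec (CommRingCat.of k))) (hF : EtCoh.IsTorsion F) (q : ℕ) (hq : n < q)
    (x : EtCoh.H (Spec (CommRingCat.of k)) F q) (hx : ∃ m : ℕ, p ^ m • x = 0) : x = 0 :=
  eq_zero_of_hypP p (h.of_le (by omega) hq) F hF x hx

end CdOneLib

end
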