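import Groth.Agent.CdOneLib.Torsion
import Groth.Agent.EtKummerLib.Basic
import Groth.Agent.EtKummerLib.Hilbert90
import Groth.Agent.MuConstLib.Main
import Mathlib.RingTheory.Polynomial.Cyclotomic.Roots
import Mathlib.RingTheory.RootsOfUnity.EnoughRootsOfUnity

/-!
# `H²(L, ℤ/p) = 0` from the vanishing of the `p`-torsion of the Brauer group
-/

set_option autoImplicit false
set_option linter.unusedSectionVars false
set_option linter.style.haveILetI false
set_option backward.isDefEq.respectTransparency false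
set_option backward.isDefEq.respectTransparency.types false
set_option synthInstance.maxHeartbeats 400000
set_option maxHeartbeats 1000000

universe u

open CategoryTheory CategoryTheory.Limits CategoryTheory.Abelian AlgebraicGeometry Opposite
open Groth.Agent.EtShLib EtSliceLib EtTransferLib

noncomputable section

namespace CdOneLib

/-- The `p`-torsion of the Brauer group. -/
def BrP (k : Type u) [Field k] (p : ℕ) : Prop :=
  ∀ x : EtCoh.H (Spec (CommRingCat.of k)) (EtCoh.Gm (Spec (CommRingCat.of k))) 2, p • x = 0 → x = 0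

theorem invertibleOn_field {k : Type u} [Field k] {n : ℕ} (hn : (n : k) ≠ 0) :
    Dix.InvertibleOn (Spec (CommRingCat.of k)) n := fun x => by
  let f : CommRingCat.of k ⟶ (Spec (CommRingCat.of k)).residueField x :=
    Spec.preimage ((Spec (CommRingCat.of k)).fromSpecResidueField x)
  rw [← map_natCast f.hom]
  exact (map_ne_zero f.hom).2 hn

theorem subsingleton_H2_mu {k : Type u} [Field k] {p : ℕ} (hp : (p : k) ≠ 0) (h : BrP k p) :
    Subsingleton (EtCoh.H (Spec (CommRingCat.of k)) (EtCoh.mu (Spec (CommRingCat.of k)) p) 2) := by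
  have hK := EtKummerLib.kummer_shortExact (invertibleOn_field hp)
  let S := EtKummerLib.kummer (Spec (CommRingCat.of k)) p
  refine subsingleton_of_forall_eq 0 fun z => ?_
  have h0 : Ext.comp (z : Ext.{u + 1} _ S.X₁ 2) (Ext.mk₀ S.f) (add_zero 2) = 0 := by
    refine h _ ?_
    rw [← EtTransferLib.comp_mk₀_nsmul, Ext.comp_assoc_of_third_deg_zero, Ext.mk₀_comp_mk₀]
    refine (congrArg (fun t => Ext.comp (z : Ext.{u + 1} _ S.X₁ 2) (Ext.mk₀ t) (add_zero 2))
      (show S.f ≫ (p • 𝟙 S.X₂) = 0 from S.zero)).trans ?_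
    rw [Ext.mk₀_zero, Ext.comp_zero]
  obtain ⟨y, hy⟩ := Ext.covariant_sequence_exact₁ _ hK (z : Ext.{u + 1} _ S.X₁ 2) h0 (n₀ := 1) rfl
  haveI := EtKummerLib.subsingleton_H1_Gm k
  rw [← hy, show y = 0 from Subsingleton.elim (α := EtCoh.H _ (EtCoh.Gm (Spec (CommRingCat.of k))) 1) _ _,
    Ext.zero_comp]

theorem exists_root_of_unity_ext (k : Type u) [Field k] (p : ℕ) [hp : Fact p.Prime] (h : (p : k) ≠ 0) :
    ∃ (L : Type u) (_ : Field L) (_ : Algebra k L) (_ : FiniteDimensional k L) (_ : Algebra.IsSeparable k L) (ζ : L),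
      Polynomial.aeval ζ (Polynomial.cyclotomic p ℤ) = 0 ∧ ¬ p ∣ Module.finrank k L := by
  haveI : NeZero ((p : ℕ) : k) := ⟨h⟩
  have hdeg : (Polynomial.cyclotomic p k).natDegree = p - 1 := by
    rw [Polynomial.natDegree_cyclotomic, Nat.totient_prime hp.out]
  obtain ⟨ζ, hζ⟩ : ∃ ζ : SeparableClosure k, Polynomial.aeval ζ (Polynomial.cyclotomic p k) = 0 :=
    IsSepClosed.exists_aeval_eq_zero (SeparableClosure k) (Polynomial.cyclotomic p k)
      (by
        rw [Polynomial.degree_eq_natDegree (Polynomial.cyclotomic_ne_zero p k), hdeg]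
        exact_mod_cast (Nat.sub_pos_of_lt hp.out.one_lt).ne')
      (Polynomial.separable_cyclotomic p k)
  have hint : IsIntegral k ζ := Algebra.IsIntegral.isIntegral ζ
  let L := IntermediateField.adjoin k ({ζ} : Set (SeparableClosure k))
  haveI : FiniteDimensional k L := IntermediateField.adjoin.finiteDimensional hint
  haveI : Algebra.IsSeparable k L := Algebra.isSeparable_tower_bot_of_isSeparable k L (SeparableClosure k)
  refine ⟨L, inferInstance, inferInstance, inferInstance, inferInstance,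
    ⟨ζ, IntermediateField.mem_adjoin_simple_self k ζ⟩, ?_, fun hd => ?_⟩
  · apply Subtype.coe_injective
    rw [← Polynomial.map_cyclotomic p (algebraMap ℤ k), Polynomial.aeval_map_algebraMap] at hζ
    refine Eq.trans ?_ hζ
    exact (Polynomial.aeval_algHom_apply (L.val.restrictScalars ℤ) _ _).symm
  · have h1 : Module.finrank k L ≤ p - 1 := by
      rw [IntermediateField.adjoin.finrank hint, ← hdeg]
      exact Polynomial.natDegree_le_of_dvd (minpoly.dvd k ζ hζ) (Polynomial.cyclotomic_ne_zero p k)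
    have h2 := Nat.le_of_dvd Module.finrank_pos hd
    have h3 := hp.out.one_lt
    omega

theorem hypP_two_of_brP {k : Type u} [Field k] {p : ℕ} [hp : Fact p.Prime] (h : (p : k) ≠ 0)
    (hBr : ∀ (L : Type u) [Field L] [Algebra k L] [FiniteDimensional k L] [Algebra.IsSeparable k L], BrP L p) :
    HypP k p 2 := by
  intro L _ _ _ _ hL
  have hpL : (p : L) ≠ 0 := by
    rw [← map_natCast (algebraMap k L)]
    exact (map_ne_zero _).2 h
  obtain ⟨L', _, _, _, _, ζ, hζ, hL'⟩ := exists_root_of_unity_ext L p hpL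
  letI : Algebra k L' := ((algebraMap L L').comp (algebraMap k L)).toAlgebra
  haveI : IsScalarTower k L L' := IsScalarTower.of_algebraMap_eq fun _ => rfl
  haveI : FiniteDimensional k L' := FiniteDimensional.trans k L L'
  haveI : Algebra.IsSeparable k L' := Algebra.IsSeparable.trans k L L'
  have hpL' : (p : L') ≠ 0 := by
    rw [← map_natCast (algebraMap L L')]
    exact (map_ne_zero _).2 hpL
  let X' := Spec (CommRingCat.of L')
  let e := (Scheme.ΓSpecIso (CommRingCat.of L')).commRingCatIsoToRingEquiv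
  have hu : IsUnit (p : Γ(X', ⊤)) := EtKummerLib.isUnit_of_invertibleOn (invertibleOn_field hpL')
  obtain ⟨i⟩ := MuConstLib.mu_iso_const (X := X') p hp.out.one_le hu (e.symm ζ) (by
    have h1 := Polynomial.aeval_algHom_apply (e.symm.toRingHom.toIntAlgHom) ζ (Polynomial.cyclotomic p ℤ)
    rw [hζ, map_zero] at h1
    exact h1)
  haveI := subsingleton_H2_mu hpL' (hBr L')
  let W := fieldEt L L'
  haveI : PreservesFiniteLimits (EtCoh.pull W.hom) := by
    haveI : AlgebraicGeometry.Etale W.hom := W.prop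
    infer_instance
  let A := AddCommGrpCat.of (ULift.{u + 1} (ZMod p))
  let j : X' ⟶ Spec (CommRingCat.of L) := W.hom
  let c : (EtCoh.pull j).obj (EtCoh.const (Spec (CommRingCat.of L)) (ZMod p)) ≅ EtCoh.mu X' p :=
    (EtCore.pullConstIso j).app A ≪≫ i.symm
  refine subsingleton_of_forall_eq 0 fun x => ?_
  let y := EtCore.Hpull W.hom (EtCoh.const (Spec (CommRingCat.of L)) (ZMod p)) 2 x
  have hy : Ext.comp (y : Ext.{u + 1} _ ((EtCoh.pull j).obj (EtCoh.const (Spec (CommRingCat.of L)) (ZMod p))) 2)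
      (Ext.mk₀ c.hom) (add_zero 2) = 0 :=
    Subsingleton.elim (α := EtCoh.H X' (EtCoh.mu X' p) 2) _ _
  have hy0 : y = 0 := by
    have h' := congrArg (fun t => Ext.comp t (Ext.mk₀ c.inv) (add_zero 2)) hy
    rwa [Ext.comp_assoc_of_third_deg_zero, Ext.mk₀_comp_mk₀, Iso.hom_inv_id, Ext.comp_mk₀_id, Ext.zero_comp] at h'
  have h1 := finrank_nsmul L L' x ((kills_iff (W := W) _ 2 x).1 hy0)
  have h2 : p • x = 0 := nsmul_ext p (nsmul_id_const p) x
  have h3 : Nat.gcd p (Module.finrank L L') • x = 0 := gcd_nsmul_eq_zero.2 ⟨h2, h1⟩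
  rwa [(hp.out.coprime_iff_not_dvd.2 hL').gcd_eq_one, one_nsmul] at h3

end CdOneLib

end
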