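import Groth.Agent.CdOneLib.Fixed
import Groth.Agent.EtShLib.Constructible
import Groth.Agent.EtShLib.Generate
import Groth.Agent.EtShLib.SamePoint
import Groth.Agent.EtTransferLib.Torsion
import Groth.Agent.EtTransferLib.PointTorsion
import Mathlib.GroupTheory.Sylow
import Mathlib.FieldTheory.IntermediateField.Algebraic
import Mathlib.FieldTheory.Normal.Closure

/-!
# `p`-primary cohomology of sheaves with finite stalks over a field
-/

set_option autoImplicit false
set_option linter.unusedSectionVars false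
set_option linter.style.haveILetI false
set_option backward.isDefEq.respectTransparency false
set_option backward.isDefEq.respectTransparency.types false
set_option synthInstance.maxHeartbeats 400000
set_option maxHeartbeats 2000000

universe u

open CategoryTheory CategoryTheory.Limits CategoryTheory.Abelian AlgebraicGeometry Opposite
open Groth.Agent.EtShLib EtSliceLib EtTransferLib EtKummerLib

noncomputable section

namespace CdOneLib

/-- `H^q(L, ℤ/p) = 0` for all finite separable extensions of degree prime to `p`. -/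
def HypP (k : Type u) [Field k] (p q : ℕ) : Prop :=
  ∀ (L : Type u) [Field L] [Algebra k L] [FiniteDimensional k L] [Algebra.IsSeparable k L],
    ¬ p ∣ Module.finrank k L →
      Subsingleton (EtCoh.H (Spec (CommRingCat.of L)) (EtCoh.const (Spec (CommRingCat.of L)) (ZMod p)) q)

theorem HypP.self {k : Type u} [Field k] {p q : ℕ} [hp : Fact p.Prime] (h : HypP k p q) :
    Subsingleton (EtCoh.H (Spec (CommRingCat.of k)) (EtCoh.const (Spec (CommRingCat.of k)) (ZMod p)) q) :=
  h k (by rw [Module.finrank_self]; exact hp.out.not_dvd_one)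

theorem HypP.ext {k : Type u} [Field k] {p q : ℕ} [hp : Fact p.Prime] (h : HypP k p q) (L : Type u) [Field L]
    [Algebra k L] [FiniteDimensional k L] [Algebra.IsSeparable k L] (hL : ¬ p ∣ Module.finrank k L) :
    HypP L p q := fun M _ _ _ _ hM => by
  letI : Algebra k M := ((algebraMap L M).comp (algebraMap k L)).toAlgebra
  haveI : IsScalarTower k L M := IsScalarTower.of_algebraMap_eq fun _ => rfl
  haveI : FiniteDimensional k M := FiniteDimensional.trans k L M
  haveI : Algebra.IsSeparable k M := Algebra.IsSeparable.trans k L M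
  refine h M fun hd => ?_
  rw [← Module.finrank_mul_finrank k L M] at hd
  exact (hp.out.dvd_mul.1 hd).elim hL hM

/-- All stalks have cardinality `N`. -/
def HasCard {X : Scheme.{u}} (G : EtCoh.Ab X) (N : ℕ) : Prop :=
  ∀ (Ω : Type u) [Field Ω] [IsSepClosed Ω] (ξ : Spec (CommRingCat.of Ω) ⟶ X),
    Finite ((stk (A := AddCommGrpCat.{u + 1}) ξ).obj G) ∧ Nat.card ((stk (A := AddCommGrpCat.{u + 1}) ξ).obj G) = N

variable (k : Type u) [Field k]

/-- The standard geometric point. -/
abbrev ξs : Spec (CommRingCat.of (SeparableClosure k)) ⟶ Spec (CommRingCat.of k) :=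
  Spec.map (CommRingCat.ofHom (algebraMap k (SeparableClosure k)))

theorem hasCard_of_point (G : EtCoh.Ab (Spec (CommRingCat.of k))) {Ω : Type u} [Field Ω] [IsSepClosed Ω]
    (ξ : Spec (CommRingCat.of Ω) ⟶ Spec (CommRingCat.of k))
    [Finite ((stk (A := AddCommGrpCat.{u + 1}) ξ).obj G)] :
    HasCard G (Nat.card ((stk (A := AddCommGrpCat.{u + 1}) ξ).obj G)) := fun Ω' _ _ ξ' => by
  haveI : Subsingleton ↥(Spec (CommRingCat.of k)) := inferInstanceAs (Subsingleton (PrimeSpectrum k))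
  obtain ⟨e⟩ := nonempty_stk_iso_of_eq (A := AddCommGrpCat.{u + 1}) (ξ := ξ) (ξ' := ξ') (Subsingleton.elim _ _)
  exact ⟨Finite.of_equiv _ (e.app G).addCommGroupIsoToAddEquiv.toEquiv,
    (Nat.card_congr (e.app G).addCommGroupIsoToAddEquiv.toEquiv).symm⟩

theorem exists_hasCard {G : EtCoh.Ab (Spec (CommRingCat.of k))}
    (hG : IsCons (A := AddCommGrpCat.{u + 1}) FinP G) : ∃ N, HasCard G N := by
  haveI := finite_stalk_Ab hG (ξs k)
  exact ⟨_, hasCard_of_point k G (ξs k)⟩

theorem hasCard_pull {X : Scheme.{u}} (j : X ⟶ Spec (CommRingCat.of k)) {G : EtCoh.Ab (Spec (CommRingCat.of k))}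
    {N : ℕ} (hG : HasCard G N) : HasCard ((EtCoh.pull j).obj G) N := fun Ω _ _ ξ => by
  obtain ⟨h1, h2⟩ := hG Ω (ξ ≫ j)
  let e := (stalkPull j ξ AddCommGrpCat.{u + 1}).app G
  exact ⟨Finite.of_equiv _ e.addCommGroupIsoToAddEquiv.toEquiv,
    (Nat.card_congr e.addCommGroupIsoToAddEquiv.toEquiv).symm.trans h2⟩

theorem stk_map_nsmul {X : Scheme.{u}} (G : EtCoh.Ab X) {Ω : Type u} [Field Ω] [IsSepClosed Ω]
    (ξ : Spec (CommRingCat.of Ω) ⟶ X) (n : ℕ) (P : ToType ((stk (A := AddCommGrpCat.{u + 1}) ξ).obj G)) :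
    (stk (A := AddCommGrpCat.{u + 1}) ξ).map (n • 𝟙 G) P = n • P := by
  obtain ⟨U, v, s, rfl⟩ := exists_germ ξ P
  rw [germ_natural_apply, nsmul_id_app, map_nsmul]

/-- Without `p`-torsion in the stalks, the `p`-primary cohomology vanishes. -/
theorem eq_zero_of_no_torsion {X : Scheme.{u}} {G : EtCoh.Ab X} {N : ℕ} (hG : HasCard G N) (p : ℕ)
    (h : ∀ (Ω : Type u) [Field Ω] [IsSepClosed Ω] (ξ : Spec (CommRingCat.of Ω) ⟶ X)
      (P : ToType ((stk (A := AddCommGrpCat.{u + 1}) ξ).obj G)), p • P = 0 → P = 0)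
    {q : ℕ} (x : EtCoh.H X G q) {m : ℕ} (hx : p ^ m • x = 0) : x = 0 := by
  haveI : IsIso (p • 𝟙 G) := isIso_of_stalks (A := AddCommGrpCat.{u + 1}) _ fun Ω _ _ ξ => by
    haveI := (hG Ω ξ).1
    rw [ConcreteCategory.isIso_iff_bijective]
    refine Finite.injective_iff_bijective.1 ((injective_iff_map_eq_zero _).2 fun P hP => h Ω ξ P ?_)
    rwa [stk_map_nsmul] at hP
  induction m with
  | zero => simpa using hx
  | succ m ih =>
    refine ih ?_
    rw [pow_succ', mul_nsmul', ← comp_mk₀_nsmul] at hx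
    have h' := congrArg (fun t => Ext.comp t (Ext.mk₀ (inv (p • 𝟙 G))) (add_zero q)) hx
    rwa [Ext.comp_assoc_of_third_deg_zero, Ext.mk₀_comp_mk₀, IsIso.hom_inv_id, Ext.comp_mk₀_id,
      Ext.zero_comp] at h'

/-- The map from `ℤ/p` given by a section with nonzero germs is injective. -/
theorem mono_of_torsion_section {X : Scheme.{u}} {G : EtCoh.Ab X} (p : ℕ) [hp : Fact p.Prime]
    (φ : EtCoh.const X (ZMod p) ⟶ G) (t : ToType (G.obj.obj (op (EtCoh.top X))))
    (hφ : φ.hom.app (op (EtCoh.top X)) (cstUnit X (AddCommGrpCat.of (ULift.{u + 1} (ZMod p))) ⟨1⟩) = t)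
    (htp : p • t = 0)
    (hone : ∀ (Ω : Type u) [Field Ω] [IsSepClosed Ω] (ξ : Spec (CommRingCat.of Ω) ⟶ X) (c : Fib ξ (EtCoh.top X)),
      germ (A := AddCommGrpCat.{u + 1}) ξ G (EtCoh.top X) c t ≠ 0) : Mono φ := by
  let A := AddCommGrpCat.of (ULift.{u + 1} (ZMod p))
  refine (mono_iff_stalks (A := AddCommGrpCat.{u + 1}) φ).2 fun Ω _ _ ξ => ?_
  obtain ⟨c, -⟩ := exists_fib ξ (EtCoh.top X) (ξ.base default) rfl
  haveI := isCst_cstUnit (X := X) A Ω ξ c
  rw [AddCommGrpCat.mono_iff_injective, injective_iff_map_eq_zero]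
  intro Q hQ
  let γ := cstUnit X A ≫ germ ξ (EtCoh.const X (ZMod p)) (EtCoh.top X) c
  obtain ⟨⟨a⟩, rfl⟩ := (ConcreteCategory.bijective_of_isIso γ).2 Q
  have h1 : (stk (A := AddCommGrpCat.{u + 1}) ξ).map φ (γ ⟨1⟩) =
      germ (A := AddCommGrpCat.{u + 1}) ξ G (EtCoh.top X) c t :=
    (germ_natural_apply ξ φ _ c _).trans (congrArg _ hφ)
  have h2 : (⟨a⟩ : ULift.{u + 1} (ZMod p)) = a.val • (⟨1⟩ : ULift.{u + 1} (ZMod p)) :=
    ULift.ext _ _ (by
      show a = a.val • (1 : ZMod p)
      rw [nsmul_one, ZMod.natCast_zmod_val])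
  rw [h2, map_nsmul, map_nsmul, h1] at hQ
  have h3 : p • germ (A := AddCommGrpCat.{u + 1}) ξ G (EtCoh.top X) c t = 0 := by rw [← map_nsmul, htp, map_zero]
  have h4 := addOrderOf_dvd_of_nsmul_eq_zero hQ
  rw [addOrderOf_eq_prime h3 (hone Ω ξ c)] at h4
  have h5 : a.val = 0 := Nat.eq_zero_of_dvd_of_lt h4 (ZMod.val_lt a)
  rw [h2, h5, zero_smul, map_zero]

/-- A nonzero torsion stalk element gives a torsion section over a Galois extension with nonzero germ. -/
theorem exists_galois_section (p : ℕ) (G : EtCoh.Ab (Spec (CommRingCat.of k)))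
    (P : ToType ((stk (A := AddCommGrpCat.{u + 1}) (ξs k)).obj G)) (h0 : P ≠ 0) (hP : p • P = 0) :
    ∃ (N : Type u) (_ : Field N) (_ : Algebra k N) (_ : FiniteDimensional k N) (_ : IsGalois k N)
      (z : Fib (ξs k) (fieldEt k N)) (b : ToType (G.obj.obj (op (fieldEt k N)))),
      p • b = 0 ∧ germ (A := AddCommGrpCat.{u + 1}) (ξs k) G (fieldEt k N) z b = P := by
  obtain ⟨U, u₀, s₀, rfl⟩ := exists_germ (ξs k) P
  obtain ⟨V₂, g₂, v₂, hv₂, he⟩ :=
    (germ_eq_iff (A := AddCommGrpCat.{u + 1}) (ξs k) U u₀ (p • s₀) 0).1 (by rw [map_nsmul, hP, map_zero])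
  obtain ⟨B, hB, hvB, -⟩ := exists_isAffineOpen_mem_and_subset (X := V₂.left) (x := v₂.pt) (U := ⊤) trivial
  haveI : AlgebraicGeometry.Etale V₂.hom := V₂.prop
  let V : (Spec (CommRingCat.of k)).Etale := MorphismProperty.Over.mk ⊤ (B.ι ≫ V₂.hom)
    (inferInstance : AlgebraicGeometry.Etale (B.ι ≫ V₂.hom))
  let e₃ : V ⟶ V₂ := MorphismProperty.Over.homMk B.ι rfl
  haveI : IsAffine V.left := hB
  have hr : Set.range v₂.hom.base ⊆ Set.range B.ι.base := by
    rintro _ ⟨y, rfl⟩
    rw [Scheme.Opens.range_ι, Subsingleton.elim y default]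
    exact hvB
  let v : Fib (ξs k) V := Fib.mk (IsOpenImmersion.lift B.ι v₂.hom hr) (by
    show _ ≫ B.ι ≫ V₂.hom = _
    rw [IsOpenImmersion.lift_fac_assoc]
    exact v₂.w)
  have hv : v.map e₃ = v₂ := Fib.ext ((Fib.map_hom e₃ v).trans (IsOpenImmersion.lift_fac B.ι v₂.hom hr))
  let φ : V.left ⟶ Spec (CommRingCat.of k) := V.hom
  haveI : AlgebraicGeometry.Etale φ := V.prop
  haveI : IsFinite φ := isFinite_of_etale_compact φ
  let R := Γ(V.left, ⊤)
  let ψ : CommRingCat.of k ⟶ R := Spec.preimage (V.left.isoSpec.inv ≫ φ)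
  have hψ : Spec.map ψ = V.left.isoSpec.inv ≫ φ := Spec.map_preimage _
  letI : Algebra k R := ψ.hom.toAlgebra
  haveI : Module.Finite k R := by
    haveI : IsFinite (Spec.map ψ) := by rw [hψ]; infer_instance
    exact RingHom.finite_algebraMap.1 ((IsFinite.SpecMap_iff _).1 ‹_›)
  let χ : R ⟶ CommRingCat.of (SeparableClosure k) := Spec.preimage (v.hom ≫ V.left.isoSpec.hom)
  have hχ : Spec.map χ = v.hom ≫ V.left.isoSpec.hom := Spec.map_preimage _
  have hχk : ψ ≫ χ = CommRingCat.ofHom (algebraMap k (SeparableClosure k)) := by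
    apply Spec.map_injective
    rw [Spec.map_comp, hχ, hψ, Category.assoc, Iso.hom_inv_id_assoc]
    exact v.w
  let χa : R →ₐ[k] SeparableClosure k :=
    { χ.hom with commutes' := fun a => congrArg (fun t => t.hom a) hχk }
  let N₀ : IntermediateField k (SeparableClosure k) :=
    Subalgebra.IsAlgebraic.toIntermediateField (S := χa.range) fun x _ => Algebra.IsAlgebraic.isAlgebraic x
  haveI : FiniteDimensional k N₀ := Module.Finite.of_surjective χa.rangeRestrict.toLinearMap χa.rangeRestrict_surjective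
  let N := IntermediateField.normalClosure k N₀ (SeparableClosure k)
  haveI : Algebra.IsSeparable k N := Algebra.isSeparable_tower_bot_of_isSeparable k N (SeparableClosure k)
  haveI : IsGalois k N := ⟨⟩
  have hle : N₀ ≤ N := IntermediateField.le_normalClosure N₀
  let τ : R →ₐ[k] N := χa.codRestrict N.toSubalgebra fun y => hle ⟨y, rfl⟩
  let g : fieldEt k N ⟶ V :=
    MorphismProperty.Over.homMk (Spec.map (CommRingCat.ofHom τ.toRingHom) ≫ V.left.isoSpec.inv) (by
      show (_ ≫ _) ≫ φ = Spec.map (CommRingCat.ofHom (algebraMap k N))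
      rw [Category.assoc, ← hψ, ← Spec.map_comp]
      exact congrArg (fun c => Spec.map (CommRingCat.ofHom c)) τ.comp_algebraMap)
  let z : Fib (ξs k) (fieldEt k N) :=
    Fib.mk (Spec.map (CommRingCat.ofHom (algebraMap N (SeparableClosure k)))) (by
      show _ ≫ Spec.map _ = _
      rw [← Spec.map_comp]
      rfl)
  have hz : z.map g = v := Fib.ext (by
    refine (Fib.map_hom g z).trans ?_
    show Spec.map _ ≫ Spec.map _ ≫ V.left.isoSpec.inv = v.hom
    rw [← Spec.map_comp_assoc, ← cancel_mono V.left.isoSpec.hom, Category.assoc, Iso.inv_hom_id, Category.comp_id, ← hχ]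
    rfl)
  refine ⟨N, inferInstance, inferInstance, inferInstance, inferInstance, z, G.obj.map (g ≫ e₃ ≫ g₂).op s₀, ?_, ?_⟩
  · rw [← map_nsmul, op_comp, op_comp, G.obj.map_comp, G.obj.map_comp]
    show G.obj.map g.op (G.obj.map e₃.op (G.obj.map g₂.op (p • s₀))) = 0
    rw [he, map_zero, map_zero, map_zero]
  · rw [op_comp, op_comp, G.obj.map_comp, G.obj.map_comp]
    show germ (A := AddCommGrpCat.{u + 1}) (ξs k) G (fieldEt k N) z (G.obj.map g.op (G.obj.map e₃.op (G.obj.map g₂.op s₀))) = _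
    rw [germ_res_apply, hz, germ_res_apply, hv, germ_res_apply, hv₂]

/-- `p`-primary classes on sheaves with finite stalks vanish. -/
theorem eq_zero_of_hasCard (p : ℕ) [hp : Fact p.Prime] (q : ℕ) :
    ∀ (N : ℕ) (k : Type u) [Field k], HypP k p q → ∀ (G : EtCoh.Ab (Spec (CommRingCat.of k))), HasCard G N →
      ∀ (x : EtCoh.H (Spec (CommRingCat.of k)) G q), (∃ m : ℕ, p ^ m • x = 0) → x = 0 := by
  intro N
  induction N using Nat.strong_induction_on with
  | _ N IH =>
  intro k _ hk G hG x ⟨m, hm⟩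
  haveI := (hG _ (ξs k)).1
  by_cases hP : ∃ P : ToType ((stk (A := AddCommGrpCat.{u + 1}) (ξs k)).obj G), P ≠ 0 ∧ p • P = 0
  swap
  · refine eq_zero_of_no_torsion hG p (fun Ω _ _ ξ P h => ?_) x hm
    haveI : Subsingleton ↥(Spec (CommRingCat.of k)) := inferInstanceAs (Subsingleton (PrimeSpectrum k))
    obtain ⟨e⟩ := nonempty_stk_iso_of_eq (A := AddCommGrpCat.{u + 1}) (ξ := ξs k) (ξ' := ξ) (Subsingleton.elim _ _)
    let a := (e.app G).addCommGroupIsoToAddEquiv
    by_contra hne
    exact hP ⟨a.symm P, fun h' => hne (a.symm.injective (h'.trans a.symm.map_zero.symm)),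
      by rw [← map_nsmul, h, map_zero]⟩
  obtain ⟨P, hP0, hPp⟩ := hP
  obtain ⟨M, _, _, _, _, z, b, hb, hbP⟩ := exists_galois_section k p G P hP0 hPp
  let S : Sylow p (M ≃ₐ[k] M) := default
  let L : IntermediateField k M := IntermediateField.fixedField (S : Subgroup (M ≃ₐ[k] M))
  haveI : Algebra.IsSeparable k L := Algebra.isSeparable_tower_bot_of_isSeparable k L M
  have hdeg : ¬ p ∣ Module.finrank k L := fun hdvd => by
    refine Sylow.not_dvd_index S ?_
    have h1 := Module.finrank_mul_finrank k L M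
    rw [IntermediateField.finrank_fixedField_eq_card, ← IsGalois.card_aut_eq_finrank k M,
      ← Subgroup.index_mul_card (S : Subgroup (M ≃ₐ[k] M))] at h1
    rwa [← Nat.eq_of_mul_eq_mul_right Nat.card_pos h1]
  let W := fieldEt k L
  let j : Spec (CommRingCat.of L) ⟶ Spec (CommRingCat.of k) := W.hom
  haveI : AlgebraicGeometry.Etale j := W.prop
  haveI : PreservesFiniteLimits (EtCoh.pull W.hom) := inferInstance
  let G' : EtCoh.Ab (Spec (CommRingCat.of L)) := (EtCoh.pull j).obj G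
  let x' : EtCoh.H (Spec (CommRingCat.of L)) G' q := EtCore.Hpull W.hom G q x
  suffices hx' : x' = 0 by
    have h1 := finrank_nsmul k L x ((kills_iff (W := W) G q x).1 hx')
    have hco : Nat.Coprime (p ^ m) (Module.finrank k L) :=
      Nat.Coprime.pow_left m (hp.out.coprime_iff_not_dvd.2 hdeg)
    have h2 : Nat.gcd (p ^ m) (Module.finrank k L) • x = 0 := gcd_nsmul_eq_zero.2 ⟨hm, h1⟩
    rwa [hco.gcd_eq_one, one_nsmul] at h2
  have hm' : p ^ m • x' = 0 :=
    ((EtCore.Hpull W.hom G q).map_nsmul (p ^ m) x).symm.trans ((congrArg _ hm).trans (map_zero _))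
  haveI : IsGalois L M := inferInstance
  have hPG : IsPGroup p (M ≃ₐ[L] M) :=
    S.2.of_equiv (IntermediateField.fixingSubgroupEquiv L |>.symm.trans (MulEquiv.subgroupCongr
      (IntermediateField.fixingSubgroup_fixedField (S : Subgroup (M ≃ₐ[k] M)))) |>.symm)
  let W' := fieldEt L M
  let l : W' ⟶ (EtCoh.bc j).obj (fieldEt k M) :=
    MorphismProperty.Over.homMk (pullback.lift (𝟙 _) W'.hom (by
      show 𝟙 _ ≫ Spec.map _ = Spec.map _ ≫ Spec.map _
      rw [Category.id_comp, ← Spec.map_comp]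
      rfl)) (pullback.lift_snd _ _ _)
  let ξ' : Spec (CommRingCat.of (SeparableClosure k)) ⟶ Spec (CommRingCat.of L) := z.hom ≫ W'.hom
  have hξ : ξ' ≫ j = ξs k := by
    refine Eq.trans ?_ z.w
    show (z.hom ≫ Spec.map _) ≫ Spec.map _ = z.hom ≫ Spec.map _
    rw [Category.assoc, ← Spec.map_comp]
    rfl
  let z' : Fib ξ' W' := Fib.mk z.hom rfl
  let zk : Fib (ξ' ≫ j) (fieldEt k M) := Fib.mk z.hom (by rw [hξ]; exact z.w)
  have hzl : z'.map l = zk.lift j ξ' := Fib.ext ((Fib.map_hom l z').trans (by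
    refine pullback.hom_ext ?_ ?_
    · show (z.hom ≫ pullback.lift _ _ _) ≫ pullback.fst _ _ = (zk.lift j ξ').hom ≫ pullback.fst _ _
      rw [Category.assoc, pullback.lift_fst]
      exact (Category.comp_id z.hom).trans (pullback.lift_fst _ _ _).symm
    · show (z.hom ≫ pullback.lift _ _ _) ≫ pullback.snd _ _ = (zk.lift j ξ').hom ≫ pullback.snd _ _
      rw [Category.assoc, pullback.lift_snd]
      exact (pullback.lift_snd _ _ _).symm))
  let η := ((adjA j AddCommGrpCat.{u + 1}).unit.app G).hom.app (op (fieldEt k M))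
  let b' : ToType (G'.obj.obj (op W')) := G'.obj.map l.op (η b)
  have hb' : p • b' = 0 := by
    show p • G'.obj.map l.op (η b) = 0
    rw [← map_nsmul]
    have h : p • η b = 0 := (η.hom.map_nsmul p b).symm.trans ((congrArg _ hb).trans η.hom.map_zero)
    exact (congrArg _ h).trans (map_zero _)
  have hb0 : b' ≠ 0 := fun h => by
    have h1 : germ (A := AddCommGrpCat.{u + 1}) ξ' G' W' z' b' = 0 := by rw [h, map_zero]
    rw [germ_res_apply, hzl] at h1
    have h2 : (stalkPull j ξ' AddCommGrpCat.{u + 1}).hom.app G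
        (germ (A := AddCommGrpCat.{u + 1}) (ξ' ≫ j) G (fieldEt k M) zk b) = 0 :=
      (ConcreteCategory.congr_hom (germ_stalkPull j ξ' AddCommGrpCat.{u + 1} G (fieldEt k M) zk) b).trans h1
    have h3 : germ (A := AddCommGrpCat.{u + 1}) (ξ' ≫ j) G (fieldEt k M) zk b = 0 :=
      (injective_iff_map_eq_zero _).1
        ((stalkPull j ξ' AddCommGrpCat.{u + 1}).app G).addCommGroupIsoToAddEquiv.injective _ h2
    haveI : Subsingleton (fieldEt k M).left := inferInstanceAs (Subsingleton (PrimeSpectrum M))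
    exact hP0 (by rw [← hbP, eq_zero_of_germ G _ zk b h3, map_zero])
  have hG' : HasCard G' N := hasCard_pull k j hG
  haveI : Subsingleton W'.left := inferInstanceAs (Subsingleton (PrimeSpectrum M))
  haveI : Finite (ToType (G'.obj.obj (op W'))) := by
    haveI := (hG' _ ξ').1
    exact Finite.of_injective _ ((injective_iff_map_eq_zero _).2 fun a ha => eq_zero_of_germ G' W' z' a ha :
      Function.Injective (germ (A := AddCommGrpCat.{u + 1}) ξ' G' W' z'))
  obtain ⟨t, htp, ht⟩ := exists_torsion_section L M p hPG G' b' hb0 hb'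
  obtain ⟨φ, hφ⟩ := exists_hom_of_torsion_section p G' t htp
  let A := AddCommGrpCat.of (ULift.{u + 1} (ZMod p))
  let XL := Spec (CommRingCat.of L)
  have hone : ∀ (Ω : Type u) [Field Ω] [IsSepClosed Ω] (ξ : Spec (CommRingCat.of Ω) ⟶ XL) (c : Fib ξ (EtCoh.top XL)),
      germ (A := AddCommGrpCat.{u + 1}) ξ G' (EtCoh.top XL) c t ≠ 0 := fun Ω _ _ ξ c h => by
    haveI : Subsingleton ↥(EtCoh.top XL).left := inferInstanceAs (Subsingleton (PrimeSpectrum L))
    exact ht (by rw [eq_zero_of_germ G' _ c t h, map_zero])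
  haveI : Mono φ := mono_of_torsion_section p φ t hφ htp hone
  let C := cokernel φ
  let T := ShortComplex.mk φ (cokernel.π φ) (cokernel.condition φ)
  have hT : T.ShortExact := { exact := ShortComplex.exact_of_g_is_cokernel _ (cokernelIsCokernel φ) }
  obtain ⟨c₀, -⟩ := exists_fib ξ' (EtCoh.top XL) (ξ'.base default) rfl
  haveI := (hG' _ ξ').1
  let π := (stk (A := AddCommGrpCat.{u + 1}) ξ').map (cokernel.π φ)
  have hπ : Function.Surjective π := (AddCommGrpCat.epi_iff_surjective _).1 inferInstance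
  haveI : Finite ((stk (A := AddCommGrpCat.{u + 1}) ξ').obj C) := Finite.of_surjective _ hπ
  have hlt : Nat.card ((stk (A := AddCommGrpCat.{u + 1}) ξ').obj C) < N := by
    rw [← (hG' _ ξ').2]
    refine lt_of_le_of_ne (Nat.card_le_card_of_surjective _ hπ) fun he => ?_
    have hinj := ((Nat.bijective_iff_surjective_and_card _).2 ⟨hπ, he.symm⟩).1
    refine hone _ ξ' c₀ (hinj ?_)
    rw [map_zero, germ_natural_apply, ← hφ]
    have h0 := congrArg (fun w : EtCoh.const XL (ZMod p) ⟶ C =>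
      w.hom.app (op (EtCoh.top XL)) (cstUnit XL A ⟨1⟩)) (cokernel.condition φ)
    exact (congrArg _ h0).trans (map_zero _)
  have hzero := IH _ hlt L (hk.ext L hdeg) C (hasCard_of_point L C ξ')
    (Ext.comp x' (Ext.mk₀ (cokernel.π φ)) (add_zero q)) ⟨m, by
      show p ^ m • Ext.comp (x' : Ext.{u + 1} _ G' q) (Ext.mk₀ (cokernel.π φ)) (add_zero q) = 0
      rw [← EtTransferLib.comp_mk₀_nsmul, Ext.comp_assoc_of_third_deg_zero, Ext.mk₀_comp_mk₀]
      have e : cokernel.π φ ≫ ((p ^ m) • 𝟙 C) = (p ^ m • 𝟙 G') ≫ cokernel.π φ := by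
        rw [Preadditive.comp_nsmul, Preadditive.nsmul_comp, Category.comp_id, Category.id_comp]
      rw [e, ← Ext.mk₀_comp_mk₀, ← Ext.comp_assoc_of_third_deg_zero, EtTransferLib.comp_mk₀_nsmul]
      exact (congrArg (fun t => Ext.comp t (Ext.mk₀ (cokernel.π φ)) (add_zero q)) hm').trans (Ext.zero_comp _ _ _ _ _)⟩
  obtain ⟨y, hy⟩ := Ext.covariant_sequence_exact₂ _ hT (x' : Ext.{u + 1} _ G' q) hzero
  haveI := (hk.ext L hdeg).self
  rw [← hy, show y = 0 from Subsingleton.elim (α := EtCoh.H XL (EtCoh.const XL (ZMod p)) q) _ _, Ext.zero_comp]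

end CdOneLib

end
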