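import Groth.Agent.EtKummerLib.Hilbert90
import Groth.Agent.EtShLib.ConstSheaf
import Mathlib.GroupTheory.PGroup
import Mathlib.FieldTheory.Galois.Basic

/-!
# Galois descent of sections and torsion sections of order `p`
-/

set_option autoImplicit false
set_option linter.unusedSectionVars false
set_option linter.style.haveILetI false
set_option backward.isDefEq.respectTransparency false
set_option backward.isDefEq.respectTransparency.types false
set_option synthInstance.maxHeartbeats 400000
set_option maxHeartbeats 1000000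

universe u

open CategoryTheory CategoryTheory.Limits CategoryTheory.Abelian AlgebraicGeometry Opposite
open Groth.Agent.EtShLib EtSliceLib EtTransferLib EtKummerLib

noncomputable section

namespace CdOneLib

variable {k : Type u} [Field k]

/-- Over a point, a section over a connected object with a zero germ is zero. -/
theorem eq_zero_of_germ (G : EtCoh.Ab (Spec (CommRingCat.of k))) (U : (Spec (CommRingCat.of k)).Etale)
    [Subsingleton U.left] {Ω : Type u} [Field Ω] [IsSepClosed Ω] {ξ : Spec (CommRingCat.of Ω) ⟶ Spec (CommRingCat.of k)}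
    (z : Fib ξ U) (b : ToType (G.obj.obj (op U))) (h : germ (A := AddCommGrpCat.{u + 1}) ξ G U z b = 0) : b = 0 := by
  obtain ⟨V, g, v, -, he⟩ := (germ_eq_iff (A := AddCommGrpCat.{u + 1}) ξ U z b 0).1 (h.trans (map_zero _).symm)
  exact res_ext (A := AddCommGrpCat.{u + 1}) G b 0 fun y => ⟨V, g, ⟨v.pt, Subsingleton.elim _ _⟩, he⟩

variable (k) (M : Type u) [Field M] [Algebra k M] [FiniteDimensional k M] [IsGalois k M]

instance subsingleton_fieldEt : Subsingleton (fieldEt k M).left := inferInstanceAs (Subsingleton (PrimeSpectrum M))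

/-- Invariant sections descend. -/
theorem exists_descend (G : EtCoh.Ab (Spec (CommRingCat.of k))) (b : ToType (G.obj.obj (op (fieldEt k M))))
    (hb : ∀ σ : M ≃ₐ[k] M, G.obj.map (autMap k M σ).op b = b) :
    ∃ t : ToType (G.obj.obj (op (EtCoh.top (Spec (CommRingCat.of k))))),
      G.obj.map ((EtCore.topIsTerminal _).from (fieldEt k M)).op t = b := by
  let X := Spec (CommRingCat.of k)
  let W := fieldEt k M
  let π : W ⟶ EtCoh.top X := (EtCore.topIsTerminal X).from W
  have hmem : Sieve.ofArrows (fun _ : PUnit.{1} => W) (fun _ => π) ∈ X.smallEtaleTopology (EtCoh.top X) := by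
    rw [Scheme.ofArrows_mem_smallEtaleTopology_iff]
    refine Set.eq_univ_of_forall fun y => Set.mem_iUnion.2 ⟨PUnit.unit, ?_⟩
    haveI : Subsingleton ↥(EtCoh.top X).left := inferInstanceAs (Subsingleton (PrimeSpectrum k))
    exact ⟨(default : PrimeSpectrum M), Subsingleton.elim _ _⟩
  have hsh : (Presieve.ofArrows (fun _ : PUnit.{1} => W) (fun _ => π)).IsSheafFor
      (G.obj ⋙ forget AddCommGrpCat.{u + 1}) := by
    rw [Presieve.isSheafFor_iff_generate]
    exact ((isSheaf_iff_isSheaf_of_type _ _).1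
      (GrothendieckTopology.HasSheafCompose.isSheaf G.obj G.property)) _ hmem
  obtain ⟨t, ht, -⟩ := (Presieve.isSheafFor_arrows_iff _ _).1 hsh (fun _ => b) (fun _ _ Z p q _ => by
    refine eq_of_germ (A := AddCommGrpCat.{u + 1}) G _ _ fun Ω _ _ ξ z => ?_
    obtain ⟨σ, hσ⟩ := exists_aut k M (z.map p) (z.map q)
    show germ ξ G Z z (G.obj.map p.op b) = germ ξ G Z z (G.obj.map q.op b)
    rw [germ_res_apply, germ_res_apply, ← hσ, ← germ_res_apply ξ G (autMap k M σ) (z.map p) b, hb σ])
  exact ⟨t, ht PUnit.unit⟩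

/-- For a `p`-group, a nonzero `p`-torsion section has an invariant companion. -/
theorem exists_torsion_section (p : ℕ) [Fact p.Prime] (hP : IsPGroup p (M ≃ₐ[k] M))
    (G : EtCoh.Ab (Spec (CommRingCat.of k))) [Finite (ToType (G.obj.obj (op (fieldEt k M))))]
    (b₀ : ToType (G.obj.obj (op (fieldEt k M)))) (h0 : b₀ ≠ 0) (hp : p • b₀ = 0) :
    ∃ t : ToType (G.obj.obj (op (EtCoh.top (Spec (CommRingCat.of k))))),
      p • t = 0 ∧ G.obj.map ((EtCore.topIsTerminal _).from (fieldEt k M)).op t ≠ 0 := by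
  classical
  let A := ToType (G.obj.obj (op (fieldEt k M)))
  let act : (M ≃ₐ[k] M) → A → A := fun σ b => G.obj.map (autMap k M σ).op b
  have hmul : ∀ σ τ b, act (σ * τ) b = act σ (act τ b) := fun σ τ b => by
    show G.obj.map (autMap k M (σ * τ)).op b = G.obj.map (autMap k M σ).op (G.obj.map (autMap k M τ).op b)
    rw [← autMap_mul, op_comp, G.obj.map_comp]
    rfl
  have hone : ∀ b, act 1 b = b := fun b => by
    have e : autMap k M 1 = 𝟙 _ := MorphismProperty.Over.Hom.ext (Spec.map_id _)
    show G.obj.map (autMap k M 1).op b = b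
    rw [e, op_id, G.obj.map_id]
    rfl
  let S := {b : A // p • b = 0}
  letI : MulAction (M ≃ₐ[k] M) S :=
    { smul := fun σ b => ⟨act σ b.1, by
        show p • G.obj.map (autMap k M σ).op b.1 = 0
        rw [← map_nsmul, b.2, map_zero]⟩
      one_smul := fun b => Subtype.ext (hone b.1)
      mul_smul := fun σ τ b => Subtype.ext (hmul σ τ b.1) }
  haveI : Finite S := inferInstanceAs (Finite {b : A // p • b = 0})
  have hdvd : p ∣ Nat.card S := by
    let K : AddSubgroup A := (nsmulAddMonoidHom p : A →+ A).ker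
    let e : S ≃ K := Equiv.subtypeEquivRight fun b => Iff.rfl
    rw [Nat.card_congr e]
    have hx : addOrderOf (⟨b₀, hp⟩ : K) = p :=
      addOrderOf_eq_prime (Subtype.ext hp) fun h => h0 (congrArg Subtype.val h)
    exact hx ▸ addOrderOf_dvd_natCard _
  let z : S := ⟨0, smul_zero p⟩
  have hz : z ∈ MulAction.fixedPoints (M ≃ₐ[k] M) S := fun σ => Subtype.ext (map_zero _)
  obtain ⟨b, hb, hne⟩ := hP.exists_fixed_point_of_prime_dvd_card_of_fixed_point S hdvd hz
  obtain ⟨t, ht⟩ := exists_descend k M G b.1 fun σ => congrArg Subtype.val (hb σ)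
  refine ⟨t, ?_, fun h => hne (Subtype.ext (h.symm.trans ht))⟩
  refine eq_of_germ (A := AddCommGrpCat.{u + 1}) G _ _ fun Ω _ _ ξ u => ?_
  obtain ⟨v, hv⟩ : ∃ v : Fib ξ (fieldEt k M), v.map ((EtCore.topIsTerminal _).from (fieldEt k M)) = u := by
    obtain ⟨v, -⟩ := exists_fib ξ (fieldEt k M) (default : PrimeSpectrum M)
      (@Subsingleton.elim _ (inferInstanceAs (Subsingleton (PrimeSpectrum k))) _ _)
    exact ⟨v, Fib.ext (by
      have h1 := Fib.w (v.map ((EtCore.topIsTerminal _).from (fieldEt k M)))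
      have h2 := Fib.w u
      exact (Category.comp_id _).symm.trans (h1.trans (h2.symm.trans (Category.comp_id _))))⟩
  rw [map_zero, ← hv, ← germ_res_apply, map_nsmul, ht, b.2, map_zero]

/-- The map from the constant sheaf given by a section killed by `p`. -/
theorem exists_hom_of_torsion_section {X : Scheme.{u}} (p : ℕ) (G : EtCoh.Ab X)
    (t : ToType (G.obj.obj (op (EtCoh.top X)))) (ht : p • t = 0) :
    ∃ φ : EtCoh.const X (ZMod p) ⟶ G,
      φ.hom.app (op (EtCoh.top X)) (cstUnit X (AddCommGrpCat.of (ULift.{u + 1} (ZMod p))) ⟨1⟩) = t := by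
  let h : ZMod p →+ ToType (G.obj.obj (op (EtCoh.top X))) :=
    ZMod.lift p ⟨zmultiplesHom _ t, by
      show (p : ℤ) • t = 0
      rw [natCast_zsmul, ht]⟩
  let A := AddCommGrpCat.of (ULift.{u + 1} (ZMod p))
  let η : A ⟶ G.obj.obj (op (EtCoh.top X)) := AddCommGrpCat.ofHom (h.comp AddEquiv.ulift.toAddMonoidHom)
  let φ : EtCoh.const X (ZMod p) ⟶ G := ((EtCore.constAdj X).homEquiv A G).symm η
  have hφ : cstUnit X A ≫ φ.hom.app (op (EtCoh.top X)) = η := by
    refine Eq.trans ?_ (((EtCore.constAdj X).homEquiv A G).apply_symm_apply η)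
    rw [Adjunction.homEquiv_unit]
    simp [φ, cstUnit, EtCore.constAdj, constantSheafAdj, constantPresheafAdj]
  refine ⟨φ, ?_⟩
  refine (ConcreteCategory.congr_hom hφ ⟨1⟩).trans ?_
  show h 1 = t
  rw [show (1 : ZMod p) = ((1 : ℤ) : ZMod p) by simp, ZMod.lift_coe]
  exact one_zsmul t

end CdOneLib

end
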