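import Groth.Agent.CdOneLib.Brauer
import Groth.Agent.EtBrLib.Gm

/-!
# The `p`-torsion of the Brauer group and norms from cyclic extensions of degree `p`
-/

set_option autoImplicit false
set_option linter.unusedSectionVars false
set_option linter.style.haveILetI false
set_option backward.isDefEq.respectTransparency false
set_option backward.isDefEq.respectTransparency.types false
set_option synthInstance.maxHeartbeats 400000
set_option maxHeartbeats 2000000

universe u

open CategoryTheory CategoryTheory.Limits CategoryTheory.Abelian AlgebraicGeometry Opposite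
open Groth.Agent.EtShLib EtSliceLib EtTransferLib EtKummerLib EtBrLib

noncomputable section

namespace CdOneLib

/-- Norms from cyclic extensions of degree `p` are surjective on units. -/
def NormP (k : Type u) [Field k] (p : ℕ) : Prop :=
  ∀ (M : Type u) [Field M] [Algebra k M] [FiniteDimensional k M] [IsGalois k M],
    Module.finrank k M = p → ∀ b : k, b ≠ 0 → ∃ x : M, Algebra.norm k x = b

/-- The same over every finite separable extension. -/
def HeredP (k : Type u) [Field k] (p : ℕ) : Prop :=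
  ∀ (k' : Type u) [Field k'] [Algebra k k'] [FiniteDimensional k k'] [Algebra.IsSeparable k k'], NormP k' p

theorem HeredP.ext {k : Type u} [Field k] {p : ℕ} (h : HeredP k p) (k' : Type u) [Field k'] [Algebra k k']
    [FiniteDimensional k k'] [Algebra.IsSeparable k k'] : HeredP k' p := fun k'' _ _ _ _ => by
  letI : Algebra k k'' := ((algebraMap k' k'').comp (algebraMap k k')).toAlgebra
  haveI : IsScalarTower k k' k'' := IsScalarTower.of_algebraMap_eq fun _ => rfl
  haveI : FiniteDimensional k k'' := FiniteDimensional.trans k k' k''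
  haveI : Algebra.IsSeparable k k'' := Algebra.IsSeparable.trans k k' k''
  exact h k''

variable (k M : Type u) [Field k] [Field M] [Algebra k M] [FiniteDimensional k M] [IsGalois k M]

theorem eps_nrm_comp_app (g : free (fieldEt k M) ⟶ EtCoh.Gm (Spec (CommRingCat.of k))) (x : Mˣ)
    (hx : g.hom.app (op (fieldEt k M)) (gen (fieldEt k M)) = gmSec k M x) :
    (eps k M ≫ nrm k M ≫ g).hom.app (op (fieldEt k M)) (gen (fieldEt k M)) =
      gmSec k M (∏ σ : M ≃ₐ[k] M, Units.map σ.toRingEquiv.toRingHom.toMonoidHom x) := by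
  rw [← Category.assoc, eps_nrm, Preadditive.sum_comp, sum_hom_app]
  simp only [freeMap_app, hx, map_gmSec]
  rw [← gmSec_prod]
  rfl

theorem exists_preimage_of_norm (f : free (EtCoh.top (Spec (CommRingCat.of k))) ⟶ EtCoh.Gm (Spec (CommRingCat.of k)))
    (hk : ∀ c : k, c ≠ 0 → ∃ x : M, Algebra.norm k x = c) :
    ∃ g : free (fieldEt k M) ⟶ EtCoh.Gm (Spec (CommRingCat.of k)), nrm k M ≫ g = f := by
  obtain ⟨c, hc⟩ := gmTop_surjective k (f.hom.app (op _) (gen (EtCoh.top (Spec (CommRingCat.of k)))))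
  obtain ⟨x, hx⟩ := hk c c.ne_zero
  have hx0 : x ≠ 0 := fun h => c.ne_zero (hx.symm.trans (by rw [h]; exact Algebra.norm_zero))
  let g := desc (fieldEt k M) (gmSec k M (Units.mk0 x hx0))
  refine ⟨g, ?_⟩
  haveI := epi_eps k M
  refine (cancel_epi (eps k M)).1 (free_hom_ext (fieldEt k M) ?_)
  rw [eps_nrm_comp_app k M g _ (desc_gen _ _), freeMap_app (toTop k M) f, ← hc, map_gmTop]
  refine congrArg (gmSec k M) (Units.ext ?_)
  show _ = algebraMap k M (c : k)
  rw [← hx, Algebra.norm_eq_prod_automorphisms, Units.coe_prod]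
  rfl

theorem exists_norm_of_brP {p : ℕ} (hp : Module.finrank k M = p) [Fact p.Prime] (hBr : BrP k p)
    (c₀ : k) (hc₀ : c₀ ≠ 0) : ∃ x : M, Algebra.norm k x = c₀ := by
  haveI : IsCyclic (M ≃ₐ[k] M) := isCyclic_of_prime_card (p := p) (by rw [IsGalois.card_aut_eq_finrank, hp])
  obtain ⟨σ, hσ⟩ := IsCyclic.exists_generator (α := M ≃ₐ[k] M)
  let X := Spec (CommRingCat.of k)
  let G := EtCoh.Gm X
  haveI := epi_eps k M
  let S₁ := ShortComplex.mk (kernel.ι (eps k M)) (eps k M) (kernel.condition _)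
  have hS₁ : S₁.ShortExact := { exact := ShortComplex.exact_of_f_is_kernel _ (kernelIsKernel _) }
  let D : free (fieldEt k M) ⟶ S₁.X₁ := kernel.lift _ (dif k M σ) (dif_eps k M σ)
  haveI : Epi D := (ShortComplex.exact_iff_epi_kernel_lift _).1 (exact_dif_eps k M σ hσ)
  haveI := mono_nrm k M
  have hS₂ : (ShortComplex.mk (nrm k M) D (by
      rw [← cancel_mono (kernel.ι (eps k M)), Category.assoc, kernel.lift_ι, nrm_dif, zero_comp])).ShortExact :=
    { exact := by
        refine (ShortComplex.exact_iff_of_epi_of_isIso_of_mono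
          (S₁ := ShortComplex.mk (nrm k M) D _) (S₂ := ShortComplex.mk (nrm k M) (dif k M σ) (nrm_dif k M σ))
          { τ₁ := 𝟙 _, τ₂ := 𝟙 _, τ₃ := kernel.ι (eps k M),
            comm₂₃ := (Category.id_comp _).trans (kernel.lift_ι (eps k M) (dif k M σ) (dif_eps k M σ)).symm }).2
          (exact_nrm_dif k M σ hσ) }
  let f : free (EtCoh.top X) ⟶ G := desc (EtCoh.top X) (gmTop k (Units.mk0 c₀ hc₀))
  let w : Ext.{u + 1} S₁.X₁ G 1 := hS₂.extClass.comp (Ext.mk₀ f) (by omega)
  let y : Ext.{u + 1} (free (EtCoh.top X)) G 2 := hS₁.extClass.comp w (by omega)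
  let s : EtCoh.const X ℤ ⟶ free (EtCoh.top X) :=
    ((EtCore.constAdj X).homEquiv _ _).symm (intHom (gen (EtCoh.top X)))
  have hs' : toConst (EtCoh.top X) ≫ s = 𝟙 _ := by
    refine free_hom_ext _ ?_
    show s.hom.app (op (EtCoh.top X)) ((toConst (EtCoh.top X)).hom.app (op (EtCoh.top X)) (gen _)) = gen _
    rw [toConst, desc_gen, (EtCore.topIsTerminal X).hom_ext ((EtCore.topIsTerminal X).from (EtCoh.top X)) (𝟙 _),
      op_id, CategoryTheory.Functor.map_id]
    exact (gsec_map_symm _).trans (intHom_one _)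
  let z : EtCoh.H X G 2 := (Ext.mk₀ s).comp y (zero_add 2)
  have hy : y = (Ext.mk₀ (toConst (EtCoh.top X))).comp z (zero_add 2) := by
    show _ = (Ext.mk₀ (toConst (EtCoh.top X))).comp ((Ext.mk₀ s).comp y (zero_add 2)) (zero_add 2)
    rw [← Ext.comp_assoc_of_second_deg_zero, Ext.mk₀_comp_mk₀, hs', Ext.mk₀_id_comp]
  have hkill : (Ext.mk₀ (toConst (fieldEt k M))).comp z (zero_add 2) = 0 := by
    rw [← freeMap_toConst (toTop k M), ← Ext.mk₀_comp_mk₀, Ext.comp_assoc_of_second_deg_zero, ← hy]
    show (Ext.mk₀ S₁.g).comp (hS₁.extClass.comp w _) _ = 0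
    exact hS₁.comp_extClass_assoc _ _
  have hz : z = 0 := hBr z (hp ▸ finrank_nsmul k M z hkill)
  have hy0 : y = 0 := by rw [hy, hz, Ext.comp_zero]
  obtain ⟨a, ha⟩ := Ext.contravariant_sequence_exact₁ hS₁ G w (by omega) hy0
  have hw : w = 0 := by
    haveI := EtKummerLib.subsingleton_ext_fieldEt_Gm k M
    rw [← ha, show a = 0 from Subsingleton.elim (α := Ext.{u + 1} (free (fieldEt k M)) G 1) a 0, Ext.comp_zero]
  obtain ⟨g', hg'⟩ := Ext.contravariant_sequence_exact₁ hS₂ G (Ext.mk₀ f) (by omega) hw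
  obtain ⟨g, rfl⟩ := (Ext.mk₀_bijective _ _).2 g'
  rw [Ext.mk₀_comp_mk₀] at hg'
  have hg : nrm k M ≫ g = f := (Ext.mk₀_bijective _ _).1 hg'
  obtain ⟨x, hx⟩ := (gmSec_bijective k M).2 (g.hom.app (op (fieldEt k M)) (gen (fieldEt k M)))
  refine ⟨(x : M), (algebraMap k M).injective ?_⟩
  have h1 := eps_nrm_comp_app k M g x hx.symm
  rw [hg, freeMap_app (toTop k M) f, desc_gen, map_gmTop] at h1
  have h2 := congrArg (fun u : Mˣ => (u : M)) ((gmSec_bijective k M).1 h1)
  rw [Algebra.norm_eq_prod_automorphisms]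
  refine Eq.trans ?_ h2.symm
  show _ = ((∏ σ : M ≃ₐ[k] M, Units.map σ.toRingEquiv.toRingHom.toMonoidHom x : Mˣ) : M)
  rw [Units.coe_prod]
  rfl

omit M in
theorem brP_of_heredP {p : ℕ} [hp : Fact p.Prime] (hk : HeredP k p) : BrP k p := by
  suffices main : ∀ (d : ℕ) (k : Type u) [Field k], HeredP k p → ∀ (N : Type u) [Field N] [Algebra k N]
      [FiniteDimensional k N] [IsGalois k N], Module.finrank k N = d →
      ∀ α : EtCoh.H (Spec (CommRingCat.of k)) (EtCoh.Gm (Spec (CommRingCat.of k))) 2,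
        p • α = 0 → EtLim.HGmPull (fieldEt k N).hom 2 α = 0 → α = 0 by
    intro α hα
    obtain ⟨L, _, _, _, _, h⟩ := exists_field_kill k (n := 1) α
    let N := IntermediateField.normalClosure k L (SeparableClosure k)
    haveI : Algebra.IsSeparable k N := Algebra.isSeparable_tower_bot_of_isSeparable k N (SeparableClosure k)
    haveI : IsGalois k N := ⟨⟩
    let f : L →ₐ[k] SeparableClosure k := IsSepClosed.lift
    let τ : L →ₐ[k] N := f.codRestrict N.toSubalgebra fun y => AlgHom.fieldRange_le_normalClosure f ⟨y, rfl⟩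
    let φ : fieldEt k N ⟶ fieldEt k L :=
      MorphismProperty.Over.homMk (Spec.map (CommRingCat.ofHom τ.toRingHom)) (by
        show Spec.map _ ≫ Spec.map (CommRingCat.ofHom (algebraMap k L)) = Spec.map (CommRingCat.ofHom (algebraMap k N))
        rw [← Spec.map_comp, ← CommRingCat.ofHom_comp]
        exact congrArg (fun c => Spec.map (CommRingCat.ofHom c)) τ.comp_algebraMap)
    refine main _ k hk N rfl α hα ((kills_iff_HGmPull k N _ α).2 ?_)
    rw [← freeMap_toConst φ, ← Ext.mk₀_comp_mk₀, Ext.comp_assoc_of_second_deg_zero, h, Ext.comp_zero]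
  intro d
  induction d using Nat.strong_induction_on with
  | _ d IHd =>
  intro k _ hk N _ _ _ _ hd α hpα hα
  have step : ∀ K' : IntermediateField k N, Module.finrank K' N < d →
      EtLim.HGmPull (fieldEt k K').hom 2 α = 0 := fun K' hK' => by
    refine IHd _ hK' K' (hk.ext K') N rfl _ ?_ ?_
    · exact ((EtLim.HGmPull (fieldEt k K').hom 2).map_nsmul p α).symm.trans ((congrArg _ hpα).trans (map_zero _))
    · refine (DivSeqLib.HGmPull_comp (fieldEt K' N).hom (fieldEt k K').hom (fieldEt k N).hom (by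
        show Spec.map _ ≫ Spec.map _ = Spec.map _
        rw [← Spec.map_comp]
        rfl) 2 α).symm.trans hα
  have hcard : Nat.card (N ≃ₐ[k] N) = d := by rw [IsGalois.card_aut_eq_finrank, hd]
  obtain ⟨P⟩ : Nonempty (Sylow p (N ≃ₐ[k] N)) := inferInstance
  by_cases hP : (P : Subgroup (N ≃ₐ[k] N)) = ⊤
  · have hG : IsPGroup p (N ≃ₐ[k] N) := fun g => by
      obtain ⟨m, hm⟩ := P.2 ⟨g, hP ▸ Subgroup.mem_top g⟩
      exact ⟨m, congrArg Subtype.val hm⟩
    obtain ⟨m, hm⟩ := IsPGroup.iff_card.1 hG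
    rw [hcard] at hm
    rcases m with _ | m
    · have h := finrank_nsmul k N α ((kills_iff_HGmPull k N _ α).1 hα)
      rwa [hd, hm, pow_zero, one_smul] at h
    obtain ⟨H, hH⟩ := Sylow.exists_subgroup_card_pow_prime p (n := m) (G := N ≃ₐ[k] N)
      (by rw [hcard, hm]; exact pow_dvd_pow p m.le_succ)
    have hidx : H.index = p := by
      have := H.card_mul_index
      rw [hH, hcard, hm, pow_succ] at this
      exact mul_left_cancel₀ (pow_ne_zero _ hp.out.ne_zero) this
    haveI : H.Normal := Subgroup.normal_of_index_eq_minFac_card (by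
      rw [hidx, hcard, hm, Nat.pow_minFac (Nat.succ_ne_zero m), hp.out.minFac_eq])
    let M := IntermediateField.fixedField H
    haveI : IsGalois k M := IsGalois.of_fixedField_normal_subgroup H
    have hMN : Module.finrank M N = p ^ m := by
      rw [IntermediateField.finrank_fixedField_eq_card, hH]
    have hkM : Module.finrank k M = p := by
      have := Module.finrank_mul_finrank k M N
      rw [hMN, hd, hm, pow_succ, mul_comm] at this
      exact mul_left_cancel₀ (pow_ne_zero m hp.out.ne_zero) this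
    have hM0 := step M (by rw [hMN, hm]; exact Nat.pow_lt_pow_right hp.out.one_lt m.lt_succ_self)
    haveI : IsCyclic (M ≃ₐ[k] M) := isCyclic_of_prime_card (p := p) (by rw [IsGalois.card_aut_eq_finrank, hkM])
    obtain ⟨σ, hσ⟩ := IsCyclic.exists_generator (α := M ≃ₐ[k] M)
    refine eq_zero_of_top α ?_
    refine eq_zero_of_cyclic_kill k M σ hσ (n := 0) ?_ ?_ _ ?_
    · intro a
      haveI := EtKummerLib.subsingleton_ext_fieldEt_Gm k M
      exact Subsingleton.elim _ _
    · intro b
      obtain ⟨f, rfl⟩ := (Ext.mk₀_bijective _ _).2 b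
      obtain ⟨g, hg⟩ := exists_preimage_of_norm k M f (hk k M hkM)
      exact ⟨Ext.mk₀ g, by rw [Ext.mk₀_comp_mk₀, hg]⟩
    · rw [← Ext.comp_assoc_of_second_deg_zero, Ext.mk₀_comp_mk₀, freeMap_toConst]
      exact (kills_iff_HGmPull k M _ α).1 hM0
  · let K' := IntermediateField.fixedField (P : Subgroup (N ≃ₐ[k] N))
    have hlt : Module.finrank K' N < d := by
      rw [IntermediateField.finrank_fixedField_eq_card, ← hcard]
      refine lt_of_le_of_ne (Subgroup.card_le_card_group _) fun h => hP (Subgroup.eq_top_of_card_eq _ h)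
    have h0 : Module.finrank k K' • α = 0 :=
      finrank_nsmul k K' α ((kills_iff_HGmPull k K' _ α).1 (step K' hlt))
    have hidx : Module.finrank k K' = (P : Subgroup (N ≃ₐ[k] N)).index := by
      have := Module.finrank_mul_finrank k K' N
      rw [IntermediateField.finrank_fixedField_eq_card, hd, ← hcard,
        ← (P : Subgroup (N ≃ₐ[k] N)).card_mul_index, mul_comm] at this
      exact mul_left_cancel₀ Nat.card_pos.ne' this
    have h3 : Nat.gcd p (Module.finrank k K') • α = 0 := gcd_nsmul_eq_zero.2 ⟨hpα, h0⟩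
    rwa [(hp.out.coprime_iff_not_dvd.2 (hidx ▸ P.not_dvd_index)).gcd_eq_one, one_nsmul] at h3

end CdOneLib

end
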